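import Groth.Agent.KerDerived.ExtNat
import Mathlib.Algebra.Homology.ShortComplex.ExactFunctor

/-!
Comparison of `Ext` along an exact functor sending injectives to acyclic objects, naturally.
-/

set_option autoImplicit false
set_option linter.style.haveILetI false

open CategoryTheory CategoryTheory.Limits Abelian

namespace Groth.Agent.KerDerived

universe w v u v' u'

variable {C : Type u} [Category.{v} C] [Abelian C] [HasExt.{w} C] [EnoughInjectives C] [HasInjectiveResolutions C]
  {C' : Type u'} [Category.{v'} C'] [Abelian C'] [HasExt.{w} C']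
  (R : C ⥤ C') [R.Additive] [PreservesFiniteLimits R] [PreservesFiniteColimits R]

/-- The connecting map of `Ext(Y, R -)` on the chosen embedding. -/
noncomputable def extDlR (Y : C') (n : ℕ) (F : C) :
    (extFunctorObj Y n).obj (R.obj (emb F).X₃) ⟶ (extFunctorObj Y (n + 1)).obj (R.obj F) :=
  AddCommGrpCat.ofHom (((emb_shortExact F).map_of_exact R).extClass.postcomp Y rfl)

theorem extDlR_desc_iff (Y : C') (n : ℕ) (F : C) (hepi : Epi (extDlR R Y n F)) {Z : AddCommGrpCat.{w}}
    (k : (R ⋙ extFunctorObj Y n).obj (emb F).X₃ ⟶ Z) :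
    (∃ y, extDlR R Y n F ≫ y = k) ↔ (R ⋙ extFunctorObj Y n).map (emb F).g ≫ k = 0 :=
  @desc_iff _ _ _ _ (Ext.covariant_sequence_exact₃' (X := Y) ((emb_shortExact F).map_of_exact R) n (n + 1) rfl)
    hepi _ k

theorem extDlR_natural (Y : C') (n : ℕ) {F F' : C} (f : F ⟶ F') :
    extDlR R Y n F ≫ (R ⋙ extFunctorObj Y (n + 1)).map f =
      (R ⋙ extFunctorObj Y n).map (embMap f).τ₃ ≫ extDlR R Y n F' := by
  ext x
  revert x
  change ∀ x : Ext Y (R.obj (emb F).X₃) n,
    (x.comp ((emb_shortExact F).map_of_exact R).extClass (rfl : n + 1 = n + 1)).comp (Ext.mk₀ (R.map f)) (add_zero (n + 1)) =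
      (x.comp (Ext.mk₀ (R.map (embMap f).τ₃)) (add_zero n)).comp ((emb_shortExact F').map_of_exact R).extClass (rfl : n + 1 = n + 1)
  intro x
  have h := ((emb_shortExact F).map_of_exact R).extClass_naturality ((emb_shortExact F').map_of_exact R)
    (R.mapShortComplex.map (embMap f))
  refine (Ext.comp_assoc_of_third_deg_zero _ _ _ _).trans ((congrArg (fun z => x.comp z _) h).trans ?_)
  exact (Ext.comp_assoc_of_second_deg_zero _ _ _ _).symm

/-- `Extⁿ(X, -) ≅ R ⋙ Extⁿ(Y, -)` from the degree zero case. -/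
theorem nonempty_ext_comp_iso (X : C) (Y : C')
    (hac : ∀ (I : C) [Injective I] (n : ℕ), Subsingleton (Ext.{w} Y (R.obj I) (n + 1)))
    (e₀ : extFunctorObj X 0 ≅ R ⋙ extFunctorObj Y 0) (n : ℕ) :
    Nonempty (extFunctorObj X n ≅ R ⋙ extFunctorObj Y n) := by
  induction n with
  | zero => exact ⟨e₀⟩
  | succ n ih =>
    obtain ⟨e⟩ := ih
    have hepi : ∀ F, Epi (extDlR R Y n F) := fun F => by
      refine (Ext.covariant_sequence_exact₁' (X := Y) ((emb_shortExact F).map_of_exact R) n (n + 1) rfl).epi_f ?_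
      ext x
      exact @Subsingleton.elim _ (hac (emb F).X₂ n) _ _
    refine natIso_of_cokernels _ _ (fun F => (extFunctorObj X n).obj (emb F).X₃)
      (fun F => extDl X n F) (fun F => e.hom.app _ ≫ extDlR R Y n F) (epi_extDl X n)
      (fun F => by haveI := hepi F; infer_instance) (fun F Z k => ?_) (fun {F F'} f => ?_)
    · rw [extDl_desc_iff]
      have h2 := extDlR_desc_iff R Y n F (hepi F) (e.inv.app (emb F).X₃ ≫ k)
      rw [e.inv.naturality_assoc, Preadditive.IsIso.comp_left_eq_zero] at h2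
      rw [← h2]
      refine exists_congr fun y => ?_
      constructor
      · intro h; rw [Category.assoc, h, e.hom_inv_id_app_assoc]
      · intro h
        rw [← h, Category.assoc]
        exact (e.inv_hom_id_app_assoc _ _).symm
    · refine ⟨_, extDl_natural X n f, ?_⟩
      rw [Category.assoc, e.hom.naturality_assoc, extDlR_natural]

/-- `Extⁿ(X, F) ≃+ Extⁿ(Y, R F)`, naturally in `F`. -/
theorem exists_ext_comp_addEquiv (X : C) (Y : C')
    (hac : ∀ (I : C) [Injective I] (n : ℕ), Subsingleton (Ext.{w} Y (R.obj I) (n + 1)))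
    (e₀ : extFunctorObj X 0 ≅ R ⋙ extFunctorObj Y 0) (n : ℕ) :
    ∃ e : ∀ F, Ext.{w} X F n ≃+ Ext.{w} Y (R.obj F) n, ∀ (F G : C) (φ : F ⟶ G) (x : Ext.{w} X F n),
      e G (x.comp (Ext.mk₀ φ) (add_zero n)) = (e F x).comp (Ext.mk₀ (R.map φ)) (add_zero n) := by
  obtain ⟨e⟩ := nonempty_ext_comp_iso R X Y hac e₀ n
  exact ⟨fun F => (e.app F).addCommGroupIsoToAddEquiv, fun F G φ x =>
    ConcreteCategory.congr_hom (e.hom.naturality φ) x⟩

end Groth.Agent.KerDerived
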