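import Groth.Agent.TriH.RDer
import Mathlib.Algebra.Homology.ShortComplex.SnakeLemma
import Mathlib.CategoryTheory.Abelian.Exact

/-!
Right derived functors by dimension shifting, naturally: composition with exact functors and the derived
functors of the kernel of a natural transformation out of the identity which is epi on injectives.
-/

set_option autoImplicit false

open CategoryTheory CategoryTheory.Limits

namespace Groth.Agent.KerDerived

universe v u v' u' v'' u''

variable {C : Type u} [Category.{v} C] {D : Type u'} [Category.{v'} D]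

/-- Two functors which are, compatibly with morphisms, quotients with the same factorisation property. -/
theorem natIso_of_cokernels (A B : C ⥤ D) (U : C → D) (pA : ∀ X, U X ⟶ A.obj X) (pB : ∀ X, U X ⟶ B.obj X)
    (hA : ∀ X, Epi (pA X)) (hB : ∀ X, Epi (pB X))
    (hker : ∀ X {Z : D} (k : U X ⟶ Z), (∃ x, pA X ≫ x = k) ↔ ∃ y, pB X ≫ y = k)
    (hnat : ∀ {X Y : C} (f : X ⟶ Y), ∃ t : U X ⟶ U Y,
      pA X ≫ A.map f = t ≫ pA Y ∧ pB X ≫ B.map f = t ≫ pB Y) : Nonempty (A ≅ B) := by
  choose x hx using fun X => (hker X (pB X)).2 ⟨𝟙 _, Category.comp_id _⟩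
  choose y hy using fun X => (hker X (pA X)).1 ⟨𝟙 _, Category.comp_id _⟩
  haveI := hA; haveI := hB
  refine ⟨NatIso.ofComponents (fun X => ⟨x X, y X, ?_, ?_⟩) fun {X Y} f => ?_⟩
  · rw [← cancel_epi (pA X), reassoc_of% (hx X), hy, Category.comp_id]
  · rw [← cancel_epi (pB X), reassoc_of% (hy X), hx, Category.comp_id]
  · obtain ⟨t, h₁, h₂⟩ := hnat f
    rw [← cancel_epi (pA X), reassoc_of% h₁, hx, reassoc_of% (hx X), h₂]

variable [Abelian C] [Abelian D]

theorem desc_iff {S : ShortComplex D} (hS : S.Exact) [Epi S.g] {Z : D} (k : S.X₂ ⟶ Z) :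
    (∃ x, S.g ≫ x = k) ↔ S.f ≫ k = 0 :=
  ⟨fun ⟨x, hx⟩ => by rw [← hx, ← Category.assoc, S.zero, zero_comp],
    fun h => ⟨hS.desc k h, hS.g_desc k h⟩⟩

variable [EnoughInjectives C] [HasInjectiveResolutions C]

/-- An injective embedding of `X` with its cokernel. -/
noncomputable def emb (X : C) : ShortComplex C := ShortComplex.mk (Injective.ι X) (cokernel.π _) (cokernel.condition _)

theorem emb_shortExact (X : C) : (emb X).ShortExact where
  exact := ShortComplex.exact_of_g_is_cokernel _ (cokernelIsCokernel _)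
  mono_f := Injective.ι_mono X
  epi_g := by dsimp [emb]; infer_instance

instance (X : C) : Injective (emb X).X₂ := by dsimp [emb]; infer_instance

/-- An extension of a morphism to the chosen embeddings. -/
noncomputable def embMap {X Y : C} (f : X ⟶ Y) : emb X ⟶ emb Y where
  τ₁ := f
  τ₂ := @Injective.factorThru _ _ _ _ _ _ (f ≫ Injective.ι Y) (Injective.ι X) (Injective.ι_mono X)
  τ₃ := cokernel.map _ _ f (@Injective.factorThru _ _ _ _ _ _ (f ≫ Injective.ι Y) (Injective.ι X) (Injective.ι_mono X))
    (@Injective.comp_factorThru _ _ _ _ _ _ (f ≫ Injective.ι Y) (Injective.ι X) (Injective.ι_mono X))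
  comm₁₂ := (@Injective.comp_factorThru _ _ _ _ _ _ (f ≫ Injective.ι Y) (Injective.ι X) (Injective.ι_mono X)).symm
  comm₂₃ := by simp [emb]

variable (F : C ⥤ D) [F.Additive]

/-- The connecting map of the derived functors on the chosen embedding. -/
noncomputable def dl (n : ℕ) (X : C) :
    (F.rightDerived n).obj (emb X).X₃ ⟶ (F.rightDerived (n + 1)).obj X :=
  (Groth.Agent.TriH.RDer.derivedLES F).δ _ (emb_shortExact X) n (n + 1) rfl

theorem dl_natural (n : ℕ) {X Y : C} (f : X ⟶ Y) :
    dl F n X ≫ (F.rightDerived (n + 1)).map f = (F.rightDerived n).map (embMap f).τ₃ ≫ dl F n Y :=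
  ((Groth.Agent.TriH.RDer.derivedLES F).δ_natural (emb_shortExact X) (emb_shortExact Y) (embMap f) n (n + 1) rfl).symm

instance epi_dl (n : ℕ) (X : C) : Epi (dl F n X) :=
  ((Groth.Agent.TriH.RDer.derivedLES F).exact₁ _ (emb_shortExact X) n (n + 1) rfl).epi_f
    ((F.isZero_rightDerived_obj_injective_succ n (emb X).X₂).eq_of_tgt _ _)

instance isIso_dl (n : ℕ) (X : C) : IsIso (dl F (n + 1) X) := by
  haveI : Mono (dl F (n + 1) X) :=
    ((Groth.Agent.TriH.RDer.derivedLES F).exact₃ _ (emb_shortExact X) (n + 1) (n + 2) rfl).mono_g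
      ((F.isZero_rightDerived_obj_injective_succ n (emb X).X₂).eq_of_src _ _)
  exact isIso_of_mono_of_epi _

theorem dl_desc_iff (n : ℕ) (X : C) {Z : D} (k : (F.rightDerived n).obj (emb X).X₃ ⟶ Z) :
    (∃ x, dl F n X ≫ x = k) ↔ (F.rightDerived n).map (emb X).g ≫ k = 0 :=
  @desc_iff _ _ _ _ ((Groth.Agent.TriH.RDer.derivedLES F).exact₃ _ (emb_shortExact X) n (n + 1) rfl) (epi_dl F n X) _ k

theorem dl_desc_iff₀ [PreservesFiniteLimits F] (X : C) {Z : D} (k : F.obj (emb X).X₃ ⟶ Z) :
    (∃ x, (F.rightDerivedZeroIsoSelf.inv.app (emb X).X₃ ≫ dl F 0 X) ≫ x = k) ↔ F.map (emb X).g ≫ k = 0 := by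
  have := dl_desc_iff F 0 X (F.rightDerivedZeroIsoSelf.hom.app (emb X).X₃ ≫ k)
  rw [F.rightDerivedZeroIsoSelf.hom.naturality_assoc, Preadditive.IsIso.comp_left_eq_zero] at this
  rw [← this]
  refine exists_congr fun x => ?_
  rw [Category.assoc, ← NatIso.cancel_natIso_hom_left F.rightDerivedZeroIsoSelf]
  simp

section Comp

variable {C' : Type u''} [Category.{v''} C'] [Abelian C'] [EnoughInjectives C'] [HasInjectiveResolutions C']
  (P : C ⥤ C') [P.Additive] [PreservesFiniteLimits P] [PreservesFiniteColimits P]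
  (T : C' ⥤ D) [T.Additive] [PreservesFiniteLimits T]

/-- The connecting map of `T` on the image of the chosen embedding. -/
noncomputable def dlP (n : ℕ) (X : C) :
    (T.rightDerived n).obj (P.obj (emb X).X₃) ⟶ (T.rightDerived (n + 1)).obj (P.obj X) :=
  (Groth.Agent.TriH.RDer.derivedLES T).δ _ ((emb_shortExact X).map_of_exact P) n (n + 1) rfl

/-- `Rⁿ(P ⋙ T) ≅ P ⋙ RⁿT` for exact `P` sending injectives to `T`-acyclic objects. -/
theorem nonempty_comp_iso (hac : ∀ (I : C) [Injective I] (n : ℕ), IsZero ((T.rightDerived (n + 1)).obj (P.obj I)))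
    (n : ℕ) : Nonempty ((P ⋙ T).rightDerived n ≅ P ⋙ T.rightDerived n) := by
  haveI : PreservesFiniteLimits (P ⋙ T) := comp_preservesFiniteLimits P T
  induction n with
  | zero =>
    exact ⟨(P ⋙ T).rightDerivedZeroIsoSelf ≪≫ (Functor.isoWhiskerLeft P T.rightDerivedZeroIsoSelf).symm⟩
  | succ n ih =>
    obtain ⟨e⟩ := ih
    haveI hepi : ∀ X, Epi (dlP P T n X) := fun X =>
      ((Groth.Agent.TriH.RDer.derivedLES T).exact₁ _ ((emb_shortExact X).map_of_exact P) n (n + 1) rfl).epi_f
        ((hac (emb X).X₂ n).eq_of_tgt _ _)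
    refine natIso_of_cokernels _ _ (fun X => ((P ⋙ T).rightDerived n).obj (emb X).X₃)
      (fun X => dl (P ⋙ T) n X) (fun X => e.hom.app _ ≫ dlP P T n X) inferInstance (fun X => inferInstance)
      (fun X Z k => ?_) (fun {X Y} f => ?_)
    · rw [dl_desc_iff]
      have h2 := @desc_iff _ _ _ _
        ((Groth.Agent.TriH.RDer.derivedLES T).exact₃ _ ((emb_shortExact X).map_of_exact P) n (n + 1) rfl)
        (hepi X) _ (e.inv.app (emb X).X₃ ≫ k)
      constructor
      · intro h
        obtain ⟨y, hy⟩ := h2.2 (by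
          change (P ⋙ T.rightDerived n).map (emb X).g ≫ _ = 0
          exact (e.inv.naturality_assoc (emb X).g k).trans ((congrArg (_ ≫ ·) h).trans comp_zero))
        exact ⟨y, by
          rw [Category.assoc]
          exact (congrArg (e.hom.app _ ≫ ·) hy).trans (e.hom_inv_id_app_assoc _ _)⟩
      · rintro ⟨y, rfl⟩
        have h3 : (P ⋙ T.rightDerived n).map (emb X).g ≫ dlP P T n X = 0 :=
          (Groth.Agent.TriH.RDer.derivedLES T).comp_δ _ ((emb_shortExact X).map_of_exact P) n (n + 1) rfl
        rw [Category.assoc, e.hom.naturality_assoc]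
        exact (congrArg (_ ≫ ·) ((Category.assoc _ _ _).symm.trans
          ((congrArg (· ≫ y) h3).trans zero_comp))).trans comp_zero
    · refine ⟨_, dl_natural (P ⋙ T) n f, ?_⟩
      have h := (Groth.Agent.TriH.RDer.derivedLES T).δ_natural ((emb_shortExact X).map_of_exact P)
        ((emb_shortExact Y).map_of_exact P) (P.mapShortComplex.map (embMap f)) n (n + 1) rfl
      refine (Category.assoc _ _ _).trans ?_
      refine (congrArg (e.hom.app _ ≫ ·) h.symm).trans ?_
      exact (e.hom.naturality_assoc (embMap f).τ₃ _).symm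

end Comp

section Kernel

variable (G H : C ⥤ C) [G.Additive] [H.Additive] [PreservesFiniteLimits H] (ι : G ⟶ 𝟭 C) (η : 𝟭 C ⟶ H)
  (w : ∀ X, ι.app X ≫ η.app X = 0) (hlim : ∀ X, IsLimit (KernelFork.ofι (ι.app X) (w X)))

/-- The cokernel of a natural transformation is computed objectwise. -/
noncomputable def cokerAppIsColimit (X : C) :
    IsColimit (CokernelCofork.ofπ ((cokernel.π η).app X)
      (congrArg (fun z => z.app X) (cokernel.condition η) : η.app X ≫ (cokernel.π η).app X = 0)) :=
  isColimitCoforkMapOfIsColimit' ((evaluation C C).obj X) (cokernel.condition η) (cokernelIsCokernel η)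

omit [EnoughInjectives C] [HasInjectiveResolutions C] in
theorem coker_cond (X : C) : η.app X ≫ (cokernel.π η).app X = 0 :=
  congrArg (fun z : 𝟭 C ⟶ cokernel η => z.app X) (cokernel.condition η)

instance additive_cokernel : (cokernel η).Additive where
  map_add {X Y} {f g} := by
    haveI : Epi ((cokernel.π η).app X) := Cofork.IsColimit.epi (cokerAppIsColimit H η X)
    rw [← cancel_epi ((cokernel.π η).app X), Preadditive.comp_add, ← NatTrans.naturality,
      ← NatTrans.naturality, ← NatTrans.naturality, Functor.map_add, Preadditive.add_comp]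

include w hlim in
/-- The snake input of a short exact sequence under `η`. -/
noncomputable def snake (S : ShortComplex C) (hS : S.ShortExact) : ShortComplex.SnakeInput C where
  L₀ := S.map G
  L₁ := S
  L₂ := S.map H
  L₃ := S.map (cokernel η)
  v₀₁ := { τ₁ := ι.app _, τ₂ := ι.app _, τ₃ := ι.app _,
           comm₁₂ := (ι.naturality _).symm, comm₂₃ := (ι.naturality _).symm }
  v₁₂ := { τ₁ := η.app _, τ₂ := η.app _, τ₃ := η.app _,
           comm₁₂ := (η.naturality _).symm, comm₂₃ := (η.naturality _).symm }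
  v₂₃ := S.mapNatTrans (cokernel.π η)
  w₀₂ := by ext <;> exact w _
  w₁₃ := by ext <;> exact congrArg (fun z : 𝟭 C ⟶ cokernel η => z.app _) (cokernel.condition η)
  h₀ := ShortComplex.isLimitOfIsLimitπ _
    ((KernelFork.isLimitMapConeEquiv _ ShortComplex.π₁).symm (hlim _))
    ((KernelFork.isLimitMapConeEquiv _ ShortComplex.π₂).symm (hlim _))
    ((KernelFork.isLimitMapConeEquiv _ ShortComplex.π₃).symm (hlim _))
  h₃ := ShortComplex.isColimitOfIsColimitπ _
    ((CokernelCofork.isColimitMapCoconeEquiv _ ShortComplex.π₁).symm (cokerAppIsColimit H η _))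
    ((CokernelCofork.isColimitMapCoconeEquiv _ ShortComplex.π₂).symm (cokerAppIsColimit H η _))
    ((CokernelCofork.isColimitMapCoconeEquiv _ ShortComplex.π₃).symm (cokerAppIsColimit H η _))
  L₁_exact := hS.exact
  epi_L₁_g := hS.epi_g
  L₂_exact := hS.exact.map_of_mono_of_preservesKernel H hS.mono_f inferInstance
  mono_L₂_f := haveI := hS.mono_f; H.map_mono S.f

include w hlim in
theorem preservesFiniteLimits_kernel : PreservesFiniteLimits G :=
  by
  have key : ∀ (S : ShortComplex C), S.ShortExact → (S.map G).Exact ∧ Mono (G.map S.f) := fun S hS =>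
    ⟨(snake G H ι η w hlim S hS).L₀_exact,
      @ShortComplex.SnakeInput.mono_L₀_f _ _ _ (snake G H ι η w hlim S hS) hS.mono_f⟩
  exact ((Functor.preservesFiniteLimits_tfae G).out 0 3).1 key

variable (hη : ∀ (I : C) [Injective I], Epi (η.app I))

include w hlim hη in
/-- `R¹G ≅ coker η`. -/
theorem nonempty_rightDerived_one_iso : Nonempty (G.rightDerived 1 ≅ cokernel η) := by
  haveI := preservesFiniteLimits_kernel G H ι η w hlim
  let Sn : C → ShortComplex.SnakeInput C := fun X => snake G H ι η w hlim (emb X) (emb_shortExact X)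
  have hδ : ∀ X, Epi (Sn X).δ := fun X => by
    refine (Sn X).L₂'_exact.epi_f ?_
    have hz : IsZero ((cokernel η).obj (emb X).X₂) := by
      rw [IsZero.iff_id_eq_zero]
      refine Cofork.IsColimit.hom_ext (cokerAppIsColimit H η (emb X).X₂) ?_
      haveI := hη (emb X).X₂
      rw [← cancel_epi (η.app (emb X).X₂)]
      simp only [CokernelCofork.π_ofπ, Category.comp_id, comp_zero]
      exact (congrArg (η.app _ ≫ ·) (Category.comp_id _)).trans (coker_cond H η _)
    exact hz.eq_of_tgt _ _
  refine natIso_of_cokernels _ _ (fun X => G.obj (emb X).X₃)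
    (fun X => G.rightDerivedZeroIsoSelf.inv.app _ ≫ dl G 0 X) (fun X => (Sn X).δ)
    (fun X => inferInstance) hδ (fun X Z k => ?_) (fun {X Y} f => ?_)
  · rw [dl_desc_iff₀]
    exact (@desc_iff _ _ _ (Sn X).L₁' (Sn X).L₁'_exact (hδ X) _ k).symm
  · refine ⟨G.map (embMap f).τ₃, ?_, ?_⟩
    · rw [Category.assoc, dl_natural, ← Category.assoc, ← Category.assoc]
      exact congrArg (· ≫ dl G 0 Y) (G.rightDerivedZeroIsoSelf.inv.naturality (embMap f).τ₃).symm
    · exact ShortComplex.SnakeInput.naturality_δ (S₁ := Sn X) (S₂ := Sn Y)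
        { f₀ := G.mapShortComplex.map (embMap f)
          f₁ := embMap f
          f₂ := H.mapShortComplex.map (embMap f)
          f₃ := (cokernel η).mapShortComplex.map (embMap f)
          comm₀₁ := by ext <;> exact ι.naturality _
          comm₁₂ := by ext <;> exact η.naturality _
          comm₂₃ := by ext <;> exact (cokernel.π η).naturality _ }

include w hlim hη in
/-- `R^{n+2}G ≅ R^{n+1}H`. -/
theorem nonempty_rightDerived_succ_iso (n : ℕ) :
    Nonempty (G.rightDerived (n + 2) ≅ H.rightDerived (n + 1)) := by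
  induction n with
  | zero =>
    obtain ⟨e⟩ := nonempty_rightDerived_one_iso G H ι η w hlim hη
    haveI : ∀ X, Epi ((cokernel.π η).app X) := fun X => Cofork.IsColimit.epi (cokerAppIsColimit H η X)
    refine natIso_of_cokernels _ _ (fun X => H.obj (emb X).X₃)
      (fun X => ((cokernel.π η).app _ ≫ e.inv.app _) ≫ dl G 1 X)
      (fun X => H.rightDerivedZeroIsoSelf.inv.app _ ≫ dl H 0 X)
      (fun X => inferInstance) (fun X => inferInstance) (fun X Z k => ?_) (fun {X Y} f => ?_)
    · rw [dl_desc_iff₀]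
      haveI := hη (emb X).X₂
      haveI : Epi (emb X).g := (emb_shortExact X).epi_g
      rw [← cancel_epi (η.app (emb X).X₂), comp_zero, ← Category.assoc, ← η.naturality]
      simp only [Functor.id_map, Category.assoc, Preadditive.IsIso.comp_left_eq_zero]
      constructor
      · rintro ⟨x, rfl⟩
        try simp only [Category.assoc]
        rw [reassoc_of% (coker_cond H η (emb X).X₃), zero_comp, comp_zero]
      · intro h
        obtain ⟨l, hl⟩ := CokernelCofork.IsColimit.desc' (cokerAppIsColimit H η (emb X).X₃) k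
          ((cancel_epi (emb X).g).1 (h.trans comp_zero.symm))
        refine ⟨inv (dl G 1 X) ≫ e.hom.app _ ≫ l, ?_⟩
        simpa using hl
    · refine ⟨H.map (embMap f).τ₃, ?_, ?_⟩
      · simp only [Category.assoc]
        rw [dl_natural, NatTrans.naturality_assoc, ← (e.inv.naturality_assoc (embMap f).τ₃)]
      · rw [Category.assoc, dl_natural, ← Category.assoc, ← Category.assoc]
        exact congrArg (· ≫ dl H 0 Y) (H.rightDerivedZeroIsoSelf.inv.naturality (embMap f).τ₃).symm
  | succ n ih =>
    obtain ⟨e⟩ := ih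
    refine ⟨NatIso.ofComponents (fun X => (asIso (dl G (n + 2) X)).symm ≪≫ e.app _ ≪≫ asIso (dl H (n + 1) X))
      fun {X Y} f => ?_⟩
    rw [← cancel_epi (dl G (n + 2) X)]
    simp only [Iso.trans_hom, Iso.symm_hom, asIso_inv, asIso_hom, Iso.app_hom, Category.assoc,
      IsIso.hom_inv_id_assoc]
    rw [← Category.assoc, dl_natural, Category.assoc, IsIso.hom_inv_id_assoc, dl_natural,
      e.hom.naturality_assoc]

end Kernel

end Groth.Agent.KerDerived
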