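import Groth.Agent.KerDerived.Basic
import Mathlib.Algebra.Homology.DerivedCategory.Ext.ExactSequences
import Mathlib.Algebra.Homology.DerivedCategory.Ext.EnoughInjectives

/-!
The right derived functors of `Hom(X, -)` are `Extⁿ(X, -)`, naturally.
-/

set_option autoImplicit false
set_option linter.style.haveILetI false

open CategoryTheory CategoryTheory.Limits Abelian

namespace Groth.Agent.KerDerived

universe w v u

variable {C : Type u} [Category.{v} C] [Abelian C] [HasExt.{w} C] [EnoughInjectives C] [HasInjectiveResolutions C]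

/-- The connecting map of `Ext(X, -)` on the chosen embedding. -/
noncomputable def extDl (X : C) (n : ℕ) (F : C) :
    (extFunctorObj X n).obj (emb F).X₃ ⟶ (extFunctorObj X (n + 1)).obj F :=
  AddCommGrpCat.ofHom ((emb_shortExact F).extClass.postcomp X rfl)

theorem epi_extDl (X : C) (n : ℕ) (F : C) : Epi (extDl X n F) := by
  refine (Ext.covariant_sequence_exact₁' (X := X) (emb_shortExact F) n (n + 1) rfl).epi_f ?_
  ext x
  exact Ext.eq_zero_of_injective _

theorem extDl_natural (X : C) (n : ℕ) {F G : C} (f : F ⟶ G) :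
    extDl X n F ≫ (extFunctorObj X (n + 1)).map f = (extFunctorObj X n).map (embMap f).τ₃ ≫ extDl X n G := by
  ext x
  have h := (emb_shortExact F).extClass_naturality (emb_shortExact G) (embMap f)
  change (x.comp (emb_shortExact F).extClass rfl).comp (Ext.mk₀ (embMap f).τ₁) (add_zero (n + 1)) =
    (x.comp (Ext.mk₀ (embMap f).τ₃) (add_zero n)).comp (emb_shortExact G).extClass rfl
  rw [Ext.comp_assoc_of_third_deg_zero, h, Ext.comp_assoc_of_second_deg_zero]

theorem extDl_desc_iff (X : C) (n : ℕ) (F : C) {Z : AddCommGrpCat.{w}}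
    (k : (extFunctorObj X n).obj (emb F).X₃ ⟶ Z) :
    (∃ y, extDl X n F ≫ y = k) ↔ (extFunctorObj X n).map (emb F).g ≫ k = 0 :=
  @desc_iff _ _ _ _ (Ext.covariant_sequence_exact₃' (X := X) (emb_shortExact F) n (n + 1) rfl)
    (epi_extDl X n F) _ k

/-- Derived functors of a functor isomorphic to `Hom(X, -)`. -/
theorem nonempty_rightDerived_iso_ext (G : C ⥤ AddCommGrpCat.{w}) [G.Additive] [PreservesFiniteLimits G]
    (X : C) (e₀ : G ≅ extFunctorObj X 0) (n : ℕ) : Nonempty (G.rightDerived n ≅ extFunctorObj X n) := by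
  induction n with
  | zero => exact ⟨G.rightDerivedZeroIsoSelf ≪≫ e₀⟩
  | succ n ih =>
    obtain ⟨e⟩ := ih
    refine natIso_of_cokernels _ _ (fun F => (G.rightDerived n).obj (emb F).X₃)
      (fun F => dl G n F) (fun F => e.hom.app _ ≫ extDl X n F) inferInstance
      (fun F => by haveI := epi_extDl X n F; infer_instance) (fun F Z k => ?_) (fun {F F'} f => ?_)
    · rw [dl_desc_iff]
      have h2 := extDl_desc_iff X n F (e.inv.app (emb F).X₃ ≫ k)
      rw [e.inv.naturality_assoc, Preadditive.IsIso.comp_left_eq_zero] at h2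
      rw [← h2]
      refine exists_congr fun y => ?_
      constructor
      · intro h; rw [Category.assoc, h, e.hom_inv_id_app_assoc]
      · intro h
        rw [← h]
        simp
    · refine ⟨_, dl_natural G n f, ?_⟩
      rw [Category.assoc, extDl_natural, e.hom.naturality_assoc]

end Groth.Agent.KerDerived
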