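import Groth.Agent.KerDerived.Flasque
import Groth.Agent.KerDerived.ExtNat
import Groth.Agent.SSExist.LocCoh

/-!
Local cohomology sheaves versus cohomology groups with supports on all opens.
-/

set_option autoImplicit false
set_option linter.style.haveILetI false
set_option backward.isDefEq.respectTransparency false
set_option backward.isDefEq.respectTransparency.types false
universe u

open CategoryTheory CategoryTheory.Limits Opposite TopologicalSpace Abelian

namespace Groth.Agent.KerDerived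

variable {X : TopCat.{u}} (U : Opens X)

/-- The section of a degree zero class. -/
noncomputable def z0 {F : CohTop.Ab X} {W V : Opens X} (h : W ≤ V) (x : LocCohZ.HZ F 0 h) : F.obj.obj (op V) :=
  (LocCohZ.sect0Equiv F h x).1

theorem z0_mk₀ {F : CohTop.Ab X} {W V : Opens X} (h : W ≤ V) (a : LocCohZ.zq h ⟶ F) :
    z0 h (Ext.mk₀ a) = CohFree.evalGen (Opens.grothendieckTopology X) V F
      (cokernel.π (CohCx.freeSheafMap (Opens.grothendieckTopology X) (homOfLE h)) ≫ a) := by
  have ha : Ext.addEquiv₀ (Ext.mk₀ a) = a := (Ext.mk₀_bijective _ _).1 (by simp)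
  exact congrArg (fun t => CohFree.evalGen (Opens.grothendieckTopology X) V F (cokernel.π _ ≫ t)) ha

theorem z0_map {F G : CohTop.Ab X} (φ : F ⟶ G) {W V : Opens X} (h : W ≤ V) (x : LocCohZ.HZ F 0 h) :
    z0 h (LocCohZ.map φ 0 h x) = φ.hom.app (op V) (z0 h x) := by
  obtain ⟨a, rfl⟩ := (Ext.mk₀_bijective _ _).2 x
  change z0 h ((Ext.mk₀ a).comp (Ext.mk₀ φ) (add_zero 0)) = _
  rw [Ext.mk₀_comp_mk₀, z0_mk₀, z0_mk₀]
  rfl

theorem z0_resZ {F : CohTop.Ab X} {W V W' V' : Opens X} (h : W ≤ V) (h' : W' ≤ V') (hW : W' ≤ W) (hV : V' ≤ V)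
    (x : LocCohZ.HZ F 0 h) : z0 h' (LocCohZ.resZ F 0 h h' hW hV x) = F.obj.map (homOfLE hV).op (z0 h x) := by
  obtain ⟨a, rfl⟩ := (Ext.mk₀_bijective _ _).2 x
  change z0 h' ((Ext.mk₀ (LocCohZ.zqMap h h' hW hV)).comp (Ext.mk₀ a) (zero_add 0)) = _
  rw [Ext.mk₀_comp_mk₀, z0_mk₀, z0_mk₀, ← CohFree.evalGen_freeSheafMap_comp]
  congr 1
  rw [← Category.assoc, ← Category.assoc]
  congr 1
  exact cokernel.π_desc _ _ _

theorem z0_injective {F : CohTop.Ab X} {W V : Opens X} (h : W ≤ V) : Function.Injective (z0 (F := F) h) :=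
  fun _ _ e => (LocCohZ.sect0Equiv F h).injective (Subtype.ext e)

theorem exists_z0 {F : CohTop.Ab X} {W V : Opens X} (h : W ≤ V) (s : F.obj.obj (op V))
    (hs : F.obj.map (homOfLE h).op s = 0) : ∃ x, z0 h x = s :=
  ⟨(LocCohZ.sect0Equiv F h).symm ⟨s, hs⟩, congrArg Subtype.val ((LocCohZ.sect0Equiv F h).apply_symm_apply _)⟩

/-- The inclusion of sections with support, on sections. -/
noncomputable def suppSec {F : CohTop.Ab X} (V : Opens X) (t : ((LocCohZ.sectSuppF U).obj F).obj.obj (op V)) :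
    F.obj.obj (op V) :=
  ((suppι U).app F).hom.app (op V) t

theorem suppSec_map {F G : CohTop.Ab X} (φ : F ⟶ G) (V : Opens X)
    (t : ((LocCohZ.sectSuppF U).obj F).obj.obj (op V)) :
    suppSec U V (((LocCohZ.sectSuppF U).map φ).hom.app (op V) t) = φ.hom.app (op V) (suppSec U V t) :=
  ConcreteCategory.congr_hom (NatTrans.congr_app (congrArg (·.hom) ((suppι U).naturality φ)) (op V)) t

theorem suppSec_res {F : CohTop.Ab X} {W V : Opens X} (h : W ≤ V)
    (t : ((LocCohZ.sectSuppF U).obj F).obj.obj (op V)) :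
    suppSec U W (((LocCohZ.sectSuppF U).obj F).obj.map (homOfLE h).op t) = F.obj.map (homOfLE h).op (suppSec U V t) :=
  ConcreteCategory.congr_hom (((suppι U).app F).hom.naturality (homOfLE h).op) t

theorem suppSec_injective {F : CohTop.Ab X} (V : Opens X) : Function.Injective (suppSec U (F := F) V) :=
  SSExist.sectSupp_injective U F V

theorem exists_z0_eq_suppSec {F : CohTop.Ab X} (V : Opens X) (t : ((LocCohZ.sectSuppF U).obj F).obj.obj (op V)) :
    ∃ x, z0 (inf_le_left : V ⊓ U ≤ V) x = suppSec U V t :=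
  exists_z0 _ _ ((SSExist.mem_sectSupp_iff U F V _).1 ⟨t, rfl⟩)

theorem exists_suppSec_eq_z0 {F : CohTop.Ab X} (V : Opens X) (x : LocCohZ.HZ F 0 (inf_le_left : V ⊓ U ≤ V)) :
    ∃ t, suppSec U V t = z0 (inf_le_left : V ⊓ U ≤ V) x :=
  (SSExist.mem_sectSupp_iff U F V _).2 (LocCohZ.sect0Equiv F _ x).2

/-- `HZ¹` vanishes on all opens iff sections with support lift sectionwise. -/
theorem surjective_app_iff (F : CohTop.Ab X) :
    (∀ V : Opens X, Subsingleton (LocCohZ.HZ F 1 (inf_le_left : V ⊓ U ≤ V))) ↔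
      ∀ V : Opens X, Function.Surjective (((LocCohZ.sectSuppF U).map (emb F).g).hom.app (op V)) := by
  refine forall_congr' fun V => ⟨fun h q => ?_, fun h => subsingleton_of_forall_eq 0 fun x => ?_⟩
  · obtain ⟨y, hy⟩ := exists_z0_eq_suppSec U V q
    obtain ⟨z, hz⟩ := Ext.covariant_sequence_exact₃ _ (emb_shortExact F) y (rfl : 0 + 1 = 1) (h.elim _ _)
    obtain ⟨t, ht⟩ := exists_suppSec_eq_z0 U V z
    refine ⟨t, suppSec_injective U V ?_⟩
    rw [suppSec_map, ht, ← z0_map, ← hy]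
    exact congrArg _ hz
  · obtain ⟨y, rfl⟩ := Ext.covariant_sequence_exact₁ _ (emb_shortExact F) x (Ext.eq_zero_of_injective _) (rfl : 0 + 1 = 1)
    obtain ⟨q, hq⟩ := exists_suppSec_eq_z0 U V y
    obtain ⟨t, rfl⟩ := h q
    obtain ⟨z, hz⟩ := exists_z0_eq_suppSec U V t
    have : y = LocCohZ.map (emb F).g 0 _ z := z0_injective _ (by rw [z0_map, hz, ← suppSec_map, hq])
    subst this
    change (z.comp (Ext.mk₀ (emb F).g) (add_zero 0)).comp (emb_shortExact F).extClass (rfl : 0 + 1 = 1) = 0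
    rw [Ext.comp_assoc_of_second_deg_zero, ShortComplex.ShortExact.comp_extClass, Ext.comp_zero]

instance preservesFiniteLimits_sectSuppF : PreservesFiniteLimits (LocCohZ.sectSuppF U) := by
  haveI := push_additive (CohCx.incl U)
  haveI := preservesFiniteLimits_push (CohCx.incl U)
  haveI : (CohTop.pull (CohCx.incl U) ⋙ CohTop.push (CohCx.incl U)).Additive := inferInstance
  haveI : PreservesFiniteLimits (CohTop.pull (CohCx.incl U) ⋙ CohTop.push (CohCx.incl U)) :=
    comp_preservesFiniteLimits _ _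
  exact preservesFiniteLimits_kernel _ _ (suppι U)
    (TopCat.Sheaf.pullbackPushforwardAdjunction AddCommGrpCat.{u} (CohCx.incl U)).unit
    (fun F => kernel.condition _) (fun F => kernelIsKernel _)

theorem isZero_HZsh_one_iff (F : CohTop.Ab X) :
    IsZero ((LocCohZ.HZsh U 1).obj F) ↔ Epi ((LocCohZ.sectSuppF U).map (emb F).g) := by
  let G := LocCohZ.sectSuppF U
  let p := G.rightDerivedZeroIsoSelf.inv.app (emb F).X₃ ≫ dl G 0 F
  constructor
  · intro h
    refine Preadditive.epi_of_cancel_zero _ fun {Z} k hk => ?_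
    obtain ⟨x, hx⟩ := (dl_desc_iff₀ G F k).2 hk
    rw [← hx, h.eq_of_src x 0, comp_zero]
  · intro h
    rw [IsZero.iff_id_eq_zero]
    have hp := (dl_desc_iff₀ G F p).1 ⟨𝟙 _, Category.comp_id _⟩
    have : p = 0 := (cancel_epi (G.map (emb F).g)).1 (hp.trans comp_zero.symm)
    exact (cancel_epi p).1 (by rw [Category.comp_id, comp_zero]; exact this)

theorem epi_of_surjective {F G : CohTop.Ab X} (φ : F ⟶ G)
    (h : ∀ V : Opens X, Function.Surjective (φ.hom.app (op V))) : Epi φ := by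
  apply (sheafToPresheaf _ _).epi_of_epi_map
  exact @NatTrans.epi_of_epi_app _ _ _ _ _ _ _ fun V => (AddCommGrpCat.epi_iff_surjective _).2 (h V.unop)

/-- Classes in degree `n + 1` vanish locally. -/
def LocZero (F : CohTop.Ab X) (n : ℕ) : Prop :=
  ∀ (V : Opens X) (x : LocCohZ.HZ F (n + 1) (inf_le_left : V ⊓ U ≤ V)), ∀ p ∈ V, ∃ (W : Opens X) (hW : W ≤ V),
    p ∈ W ∧ LocCohZ.resZ F (n + 1) inf_le_left (inf_le_left : W ⊓ U ≤ W) (inf_le_inf_right U hW) hW x = 0

theorem resZ_extDl (F : CohTop.Ab X) (n : ℕ) {V W : Opens X} (hW : W ≤ V)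
    (y : LocCohZ.HZ (emb F).X₃ n (inf_le_left : V ⊓ U ≤ V)) :
    LocCohZ.resZ F (n + 1) inf_le_left (inf_le_left : W ⊓ U ≤ W) (inf_le_inf_right U hW) hW
        (y.comp (emb_shortExact F).extClass rfl) =
      (LocCohZ.resZ _ n inf_le_left (inf_le_left : W ⊓ U ≤ W) (inf_le_inf_right U hW) hW y).comp
        (emb_shortExact F).extClass rfl :=
  (Ext.comp_assoc _ _ _ (zero_add n) rfl (by omega)).symm

theorem locZero_zero_epi (F : CohTop.Ab X) (h : LocZero U F 0) : Epi ((LocCohZ.sectSuppF U).map (emb F).g) := by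
  refine (TopCat.Sheaf.isLocallySurjective_iff_epi _).1 ((TopCat.Presheaf.isLocallySurjective_iff _).2 ?_)
  intro V q p hp
  obtain ⟨y, hy⟩ := exists_z0_eq_suppSec U V q
  obtain ⟨W, hW, hpW, h0⟩ := h V (y.comp (emb_shortExact F).extClass rfl) p hp
  rw [resZ_extDl] at h0
  obtain ⟨z, hz⟩ := Ext.covariant_sequence_exact₃ _ (emb_shortExact F) _ (rfl : 0 + 1 = 1) h0
  obtain ⟨t, ht⟩ := exists_suppSec_eq_z0 U W z
  refine ⟨W, hW, ⟨t, suppSec_injective U W ?_⟩, hpW⟩
  refine Eq.trans ?_ (suppSec_res U hW q).symm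
  rw [suppSec_map, ht, ← z0_map, ← hy, ← z0_resZ inf_le_left inf_le_left (inf_le_inf_right U hW) hW]
  exact congrArg _ hz

theorem bijective_comp_extClass (F : CohTop.Ab X) (n : ℕ) {W V : Opens X} (h : W ≤ V) :
    Function.Bijective (fun y : LocCohZ.HZ (emb F).X₃ (n + 1) h =>
      y.comp (emb_shortExact F).extClass (rfl : n + 1 + 1 = n + 2)) := by
  refine ⟨fun a b hab => ?_, fun x => ?_⟩
  · rw [← sub_eq_zero]
    have h0 : (a - b).comp (emb_shortExact F).extClass (rfl : n + 1 + 1 = n + 2) = 0 := by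
      exact (map_sub ((emb_shortExact F).extClass.postcomp (LocCohZ.zq h) rfl) a b).trans (sub_eq_zero.2 hab)
    obtain ⟨z, hz⟩ := Ext.covariant_sequence_exact₃ _ (emb_shortExact F) _ rfl h0
    rw [← hz, Ext.eq_zero_of_injective z, Ext.zero_comp]
  · exact Ext.covariant_sequence_exact₁ _ (emb_shortExact F) x (Ext.eq_zero_of_injective _) rfl

theorem main (n : ℕ) : ∀ F : CohTop.Ab X, TopCat.Sheaf.IsFlasque ((LocCohZ.sectSuppF U).obj F) →
    ((∀ i < n, IsZero ((LocCohZ.HZsh U (i + 1)).obj F)) ↔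
      ∀ i < n, ∀ V : Opens X, Subsingleton (LocCohZ.HZ F (i + 1) (inf_le_left : V ⊓ U ≤ V))) ∧
    ((∀ i < n, ∀ V : Opens X, Subsingleton (LocCohZ.HZ F (i + 1) (inf_le_left : V ⊓ U ≤ V))) → LocZero U F n →
      IsZero ((LocCohZ.HZsh U (n + 1)).obj F)) := by
  induction n with
  | zero =>
    intro F _
    exact ⟨⟨fun _ i hi => absurd hi (Nat.not_lt_zero i), fun _ i hi => absurd hi (Nat.not_lt_zero i)⟩,
      fun _ h => (isZero_HZsh_one_iff U F).2 (locZero_zero_epi U F h)⟩
  | succ n ih =>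
    intro F hF
    let G := LocCohZ.sectSuppF U
    have hses : Epi (G.map (emb F).g) → ((emb F).map G).ShortExact := fun he =>
      haveI := (emb_shortExact F).mono_f
      { exact := (emb_shortExact F).exact.map_of_mono_of_preservesKernel G (emb_shortExact F).mono_f inferInstance
        mono_f := G.map_mono (emb F).f
        epi_g := he }
    have hQ : Epi (G.map (emb F).g) → TopCat.Sheaf.IsFlasque (G.obj (emb F).X₃) := fun he => by
      haveI : TopCat.Sheaf.IsFlasque ((emb F).map G).X₁ := hF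
      haveI : TopCat.Sheaf.IsFlasque ((emb F).map G).X₂ := by
        haveI := CohVanish.isFlasque_of_injective (emb F).X₂
        exact SSExist.isFlasque_sectSupp U (emb F).X₂
      exact TopCat.Sheaf.IsFlasque.of_shortExact_of_isFlasque₁₂ (hses he)
    have h1 : (∀ V : Opens X, Subsingleton (LocCohZ.HZ F 1 (inf_le_left : V ⊓ U ≤ V))) ↔
        IsZero ((LocCohZ.HZsh U 1).obj F) := by
      rw [surjective_app_iff, isZero_HZsh_one_iff]
      refine ⟨epi_of_surjective _, fun he V => ?_⟩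
      haveI : TopCat.Sheaf.IsFlasque ((emb F).map G).X₁ := hF
      exact (AddCommGrpCat.epi_iff_surjective _).1 (TopCat.Sheaf.IsFlasque.epi_of_shortExact (U := V) (hses he))
    have hs : ∀ i, IsZero ((LocCohZ.HZsh U (i + 2)).obj F) ↔ IsZero ((LocCohZ.HZsh U (i + 1)).obj (emb F).X₃) :=
      fun i => (asIso (dl G (i + 1) F)).symm.isZero_iff
    have hz : ∀ (i : ℕ) (V : Opens X), Subsingleton (LocCohZ.HZ F (i + 2) (inf_le_left : V ⊓ U ≤ V)) ↔
        Subsingleton (LocCohZ.HZ (emb F).X₃ (i + 1) (inf_le_left : V ⊓ U ≤ V)) := fun i V =>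
      (Equiv.ofBijective _ (bijective_comp_extClass F i inf_le_left)).symm.subsingleton_congr
    refine ⟨⟨fun h i hi V => ?_, fun h i hi => ?_⟩, fun h hl => ?_⟩
    · cases i with
      | zero => exact h1.2 (h 0 hi) V
      | succ i =>
        have hq := hQ ((isZero_HZsh_one_iff U F).1 (h 0 n.succ_pos))
        exact (hz i V).2 ((ih _ hq).1.1 (fun j hj => (hs j).1 (h (j + 1) (by omega))) i (by omega) V)
    · cases i with
      | zero => exact h1.1 (h 0 hi)
      | succ i =>
        have hq := hQ ((isZero_HZsh_one_iff U F).1 (h1.1 (h 0 n.succ_pos)))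
        exact (hs i).2 ((ih _ hq).1.2 (fun j hj V => (hz j V).1 (h (j + 1) (by omega) V)) i (by omega))
    · have hq := hQ ((isZero_HZsh_one_iff U F).1 (h1.1 (h 0 n.succ_pos)))
      refine (hs n).2 ((ih _ hq).2 (fun j hj V => (hz j V).1 (h (j + 1) (by omega) V)) fun V y p hp => ?_)
      obtain ⟨W, hW, hpW, h0⟩ := hl V (y.comp (emb_shortExact F).extClass rfl) p hp
      rw [resZ_extDl] at h0
      exact ⟨W, hW, hpW, (bijective_comp_extClass F n inf_le_left).1 (h0.trans (map_zero ((emb_shortExact F).extClass.postcomp _ rfl)).symm)⟩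

theorem isZero_HZsh_zero_iff (F : CohTop.Ab X) :
    IsZero ((LocCohZ.HZsh U 0).obj F) ↔
      ∀ V : Opens X, Subsingleton (LocCohZ.HZ F 0 (inf_le_left : V ⊓ U ≤ V)) := by
  refine ((LocCohZ.sectSuppF U).rightDerivedZeroIsoSelf.app F).isZero_iff.trans ⟨fun h V => ?_, fun h => ?_⟩
  · refine subsingleton_of_forall_eq 0 fun x => z0_injective _ ?_
    obtain ⟨t, ht⟩ := exists_suppSec_eq_z0 U V x
    rw [← ht]
    have hsub : t = 0 := by
      have h2 := ((SSExist.secAb (Opens.grothendieckTopology X) V).map_isZero h)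
      exact (AddCommGrpCat.subsingleton_of_isZero h2).elim _ _
    rw [hsub]
    exact (map_zero (((suppι U).app F).hom.app (op V)).hom).trans (by simp [z0])
  · rw [IsZero.iff_id_eq_zero]
    ext V t
    refine suppSec_injective U V.unop ?_
    obtain ⟨x, hx⟩ := exists_z0_eq_suppSec U V.unop t
    change suppSec U V.unop t = suppSec U V.unop 0
    rw [← hx, (h V.unop).elim x 0]
    exact (show z0 _ 0 = 0 by simp [z0]).trans (map_zero _).symm

theorem isFlasque_of_isZero {F : CohTop.Ab X} (h : IsZero F) : TopCat.Sheaf.IsFlasque F where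
  epi {V W} i := by
    have h2 := (SSExist.secAb (Opens.grothendieckTopology X) W.unop).map_isZero h
    exact ⟨fun _ _ _ => h2.eq_of_src _ _⟩

theorem isZero_iff_subsingleton (F : CohTop.Ab X) (n : ℕ) :
    (∀ i < n, IsZero ((LocCohZ.HZsh U i).obj F)) ↔
      ∀ (V : Opens X) (i : ℕ), i < n → Subsingleton (LocCohZ.HZ F i (inf_le_left : V ⊓ U ≤ V)) := by
  cases n with
  | zero => simp
  | succ n =>
    have hf : IsZero ((LocCohZ.HZsh U 0).obj F) → TopCat.Sheaf.IsFlasque ((LocCohZ.sectSuppF U).obj F) :=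
      fun h => isFlasque_of_isZero (((LocCohZ.sectSuppF U).rightDerivedZeroIsoSelf.app F).isZero_iff.1 h)
    constructor
    · intro h V i hi
      cases i with
      | zero => exact (isZero_HZsh_zero_iff U F).1 (h 0 hi) V
      | succ i => exact (main U n F (hf (h 0 n.succ_pos))).1.1 (fun j hj => h (j + 1) (by omega)) i (by omega) V
    · intro h i hi
      have h0 := (isZero_HZsh_zero_iff U F).2 fun V => h V 0 n.succ_pos
      cases i with
      | zero => exact h0
      | succ i => exact (main U n F (hf h0)).1.2 (fun j hj V => h V (j + 1) (by omega)) i (by omega)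

theorem injective_res {F : CohTop.Ab X} {W V : Opens X} (h : W ≤ V) (i : ℕ)
    (hi : Subsingleton (LocCohZ.HZ F i h)) : Function.Injective (CohTop.res F i h) :=
  (injective_iff_map_eq_zero _).2 fun x hx => by
    obtain ⟨y, rfl⟩ := Ext.contravariant_sequence_exact₂ (LocCohZ.zqSeq_shortExact h) F x hx
    rw [hi.elim y 0]
    exact map_zero (LocCohZ.toHU F i h)

theorem surjective_res {F : CohTop.Ab X} {W V : Opens X} (h : W ≤ V) (i : ℕ)
    (hi : Subsingleton (LocCohZ.HZ F (i + 1) h)) : Function.Surjective (CohTop.res F i h) := fun x => by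
  obtain ⟨y, hy⟩ := Ext.contravariant_sequence_exact₁ (LocCohZ.zqSeq_shortExact h) F x (n₁ := i + 1) (by omega)
    (hi.elim _ _)
  exact ⟨y, hy⟩

theorem subsingleton_HZ_zero {F : CohTop.Ab X} {W V : Opens X} (h : W ≤ V)
    (hi : Function.Injective (CohTop.res F 0 h)) : Subsingleton (LocCohZ.HZ F 0 h) := by
  refine subsingleton_of_forall_eq 0 fun x => ?_
  obtain ⟨a, rfl⟩ := (Ext.mk₀_bijective _ _).2 x
  have : CohTop.res F 0 h (LocCohZ.toHU F 0 h (Ext.mk₀ a)) = 0 := by
    refine ((Ext.comp_assoc _ _ _ (zero_add 0) (zero_add 0) (by omega)).symm.trans ?_)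
    rw [Ext.mk₀_comp_mk₀]
    erw [cokernel.condition]
    simp
  have h2 := hi (this.trans (map_zero _).symm)
  change (Ext.mk₀ (cokernel.π (CohCx.freeSheafMap (Opens.grothendieckTopology X) (homOfLE h)))).comp (Ext.mk₀ a) (zero_add 0) = 0 at h2
  rw [Ext.mk₀_comp_mk₀, Ext.mk₀_eq_zero_iff] at h2
  rw [Ext.mk₀_eq_zero_iff]
  exact (cancel_epi (cokernel.π _)).1 (h2.trans comp_zero.symm)

theorem eq_zero_of_toHU {F : CohTop.Ab X} {W V : Opens X} (h : W ≤ V) (i : ℕ)
    (hs : Function.Surjective (CohTop.res F i h)) (x : LocCohZ.HZ F (i + 1) h)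
    (hx : LocCohZ.toHU F (i + 1) h x = 0) : x = 0 := by
  obtain ⟨y, rfl⟩ := Ext.contravariant_sequence_exact₃ (LocCohZ.zqSeq_shortExact h) F x hx (n₀ := i) (by omega)
  obtain ⟨z, rfl⟩ := hs y
  exact (LocCohZ.zqSeq_shortExact h).extClass_comp_assoc z

theorem subsingleton_HZ_succ {F : CohTop.Ab X} {W V : Opens X} (h : W ≤ V) (i : ℕ)
    (hs : Function.Surjective (CohTop.res F i h)) (hi : Function.Injective (CohTop.res F (i + 1) h)) :
    Subsingleton (LocCohZ.HZ F (i + 1) h) := by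
  refine subsingleton_of_forall_eq 0 fun x => eq_zero_of_toHU h i hs x (hi ?_)
  refine ((Ext.comp_assoc _ _ _ (zero_add 0) (zero_add _) (by omega)).symm.trans ?_).trans (map_zero _).symm
  rw [Ext.mk₀_comp_mk₀]
  erw [cokernel.condition]
  simp

theorem isZero_HZsh_iff_res (F : CohTop.Ab X) (N : ℕ) :
    (∀ i, i ≤ N → IsZero ((LocCohZ.HZsh U i).obj F)) ↔
      ∀ V : Opens X, (∀ i, i < N → Function.Bijective (CohTop.res F i (inf_le_left : V ⊓ U ≤ V))) ∧
        Function.Injective (CohTop.res F N (inf_le_left : V ⊓ U ≤ V)) := by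
  rw [show (∀ i, i ≤ N → IsZero ((LocCohZ.HZsh U i).obj F)) ↔ ∀ i < N + 1, IsZero ((LocCohZ.HZsh U i).obj F) from
    forall_congr' fun i => by rw [Nat.lt_succ_iff], isZero_iff_subsingleton]
  refine forall_congr' fun V => ⟨fun h => ⟨fun i hi => ⟨injective_res _ i (h i (by omega)),
    surjective_res _ i (h (i + 1) (by omega))⟩, injective_res _ N (h N (by omega))⟩, fun h i hi => ?_⟩
  have hinj : ∀ j, j ≤ N → Function.Injective (CohTop.res F j (inf_le_left : V ⊓ U ≤ V)) := fun j hj =>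
    (Nat.lt_or_eq_of_le hj).elim (fun hlt => (h.1 j hlt).1) (fun e => e ▸ h.2)
  cases i with
  | zero => exact subsingleton_HZ_zero _ (hinj 0 (Nat.zero_le N))
  | succ i => exact subsingleton_HZ_succ _ i (h.1 i (by omega)).2 (hinj (i + 1) (by omega))

theorem isZero_HZsh_of_bijective (F : CohTop.Ab X) (N : ℕ) (hN : 0 < N)
    (h : ∀ (V : Opens X) (i : ℕ), i < N → Function.Bijective (CohTop.res F i (inf_le_left : V ⊓ U ≤ V))) :
    ∀ i, i ≤ N → IsZero ((LocCohZ.HZsh U i).obj F) := by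
  obtain ⟨m, rfl⟩ : ∃ m, N = m + 1 := ⟨N - 1, by omega⟩
  have hlt : ∀ i, i ≤ m → IsZero ((LocCohZ.HZsh U i).obj F) :=
    (isZero_HZsh_iff_res U F m).2 fun V => ⟨fun i hi => h V i (by omega), (h V m (by omega)).1⟩
  intro i hi
  rcases Nat.lt_or_eq_of_le hi with hi' | rfl
  · exact hlt i (by omega)
  have hflq : TopCat.Sheaf.IsFlasque ((LocCohZ.sectSuppF U).obj F) :=
    isFlasque_of_isZero (((LocCohZ.sectSuppF U).rightDerivedZeroIsoSelf.app F).isZero_iff.1 (hlt 0 (Nat.zero_le m)))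
  refine (main U m F hflq).2 ((main U m F hflq).1.1 fun j hj => hlt (j + 1) (by omega)) fun V x p hp => ?_
  obtain ⟨W, hW, hpW, h0⟩ := CohVanish.exists_eRes_eq_zero F V m (LocCohZ.toHU F (m + 1) inf_le_left x) p hp
  refine ⟨W, hW, hpW, eq_zero_of_toHU _ m (h W m (by omega)).2 _ (Eq.trans ?_ h0)⟩
  refine (Ext.comp_assoc _ _ _ (zero_add 0) (zero_add _) (by omega)).symm.trans ?_
  refine Eq.trans ?_ (Ext.comp_assoc _ _ _ (zero_add 0) (zero_add _) (by omega))
  refine congrArg (fun z => Ext.comp z x (zero_add (m + 1))) ?_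
  rw [Ext.mk₀_comp_mk₀, Ext.mk₀_comp_mk₀]
  exact congrArg Ext.mk₀ (cokernel.π_desc _ _ _)

end Groth.Agent.KerDerived
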