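import Groth.Prelude.Def_LocCohZ
import Groth.Agent.KerDerived.Basic
import Groth.Agent.CohVanish.Compare

/-!
The unit `F ⟶ f_* f⁻¹ F` of an open immersion: epi on flasque sheaves; flasque sheaves are acyclic for direct images.
-/

set_option autoImplicit false
set_option linter.style.haveILetI false
universe u
set_option backward.isDefEq.respectTransparency false
set_option backward.isDefEq.respectTransparency.types false

open CategoryTheory CategoryTheory.Limits Opposite TopologicalSpace

namespace Groth.Agent.KerDerived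

variable {X : TopCat.{u}} (U : Opens X)

theorem map_isContinuous {Y : TopCat.{u}} (f : X ⟶ Y) :
    (Opens.map f).IsContinuous (Opens.grothendieckTopology Y) (Opens.grothendieckTopology X) := inferInstance

theorem push_additive {Y : TopCat.{u}} (f : X ⟶ Y) : (CohTop.push f).Additive := inferInstance

theorem pull_rightExact {Y : TopCat.{u}} (f : X ⟶ Y) : PreservesFiniteColimits (CohTop.pull f) := by
  haveI := (TopCat.Sheaf.pullbackPushforwardAdjunction AddCommGrpCat.{u} f).leftAdjoint_preservesColimits
  infer_instance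

/-- Restriction is left adjoint to the direct image. -/
noncomputable def restrAdj :
    CohVanish.restrictSh U.isOpenEmbedding ⊣ CohTop.push (CohCx.incl U) :=
  haveI : (U.isOpenEmbedding.isOpenMap.functor).IsContinuous (Opens.grothendieckTopology (TopCat.of U))
      (Opens.grothendieckTopology X) := U.isOpenEmbedding.functor_isContinuous
  haveI : (Opens.map U.inclusion').IsContinuous (Opens.grothendieckTopology X)
      (Opens.grothendieckTopology (TopCat.of U)) :=
    map_isContinuous (CohCx.incl U)
  U.isOpenEmbedding.isOpenMap.adjunction.sheafPushforwardContinuous (Opens.grothendieckTopology (TopCat.of U))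
    (Opens.grothendieckTopology X)

/-- Pullback along an open immersion is restriction. -/
noncomputable def pullIsoRestr : CohTop.pull (CohCx.incl U) ≅ CohVanish.restrictSh U.isOpenEmbedding :=
  (TopCat.Sheaf.pullbackPushforwardAdjunction AddCommGrpCat.{u} (CohCx.incl U)).leftAdjointUniq (restrAdj U)

instance additive_pull : (CohTop.pull (CohCx.incl U)).Additive :=
  Functor.additive_of_iso (pullIsoRestr U).symm

instance preservesFiniteLimits_pull : PreservesFiniteLimits (CohTop.pull (CohCx.incl U)) :=
  preservesFiniteLimits_of_natIso (pullIsoRestr U).symm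

instance preservesFiniteLimits_push {Y : TopCat.{u}} (f : X ⟶ Y) : PreservesFiniteLimits (CohTop.push f) := by
  haveI := (TopCat.Sheaf.pullbackPushforwardAdjunction AddCommGrpCat.{u} f).rightAdjoint_preservesLimits
  infer_instance

lemma isFlasque_pull (F : CohTop.Ab X) [TopCat.Sheaf.IsFlasque F] :
    TopCat.Sheaf.IsFlasque ((CohTop.pull (CohCx.incl U)).obj F) where
  epi {V W} i := by
    let a := (pullIsoRestr U).app F
    have h := a.inv.hom.naturality i
    haveI hE : Epi (((CohVanish.restrictSh U.isOpenEmbedding).obj F).obj.map i) :=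
      (CohVanish.isFlasque_restrictSh U.isOpenEmbedding F).epi i
    haveI : IsIso (a.inv.hom.app W) := inferInstance
    haveI : Epi (a.inv.hom.app V ≫ ((CohTop.pull (CohCx.incl U)).obj F).obj.map i) := by rw [← h]; exact @epi_comp _ _ _ _ _ _ hE _ inferInstance
    exact epi_of_epi (a.inv.hom.app V) _

lemma epi_unit_of_flasque (F : CohTop.Ab X) [TopCat.Sheaf.IsFlasque F] :
    Epi ((TopCat.Sheaf.pullbackPushforwardAdjunction AddCommGrpCat.{u} (CohCx.incl U)).unit.app F) := by
  haveI : Epi ((restrAdj U).unit.app F) := by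
    apply (sheafToPresheaf _ _).epi_of_epi_map
    refine @NatTrans.epi_of_epi_app _ _ _ _ _ _ _ fun V => ?_
    have := TopCat.Presheaf.IsFlasque.epi (F := F.obj)
      (U.isOpenEmbedding.isOpenMap.adjunction.counit.app V.unop).op
    simpa [restrAdj] using this
  have h := (TopCat.Sheaf.pullbackPushforwardAdjunction AddCommGrpCat.{u} (CohCx.incl U)).unit_leftAdjointUniq_hom_app
    (restrAdj U) F
  haveI : Epi ((TopCat.Sheaf.pullbackPushforwardAdjunction AddCommGrpCat.{u} (CohCx.incl U)).unit.app F ≫
      (CohTop.push (CohCx.incl U)).map ((pullIsoRestr U).hom.app F)) := h ▸ inferInstance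
  exact (epi_comp_iff_of_isIso _ _).1 this

lemma isZero_Rpush_of_flasque {Y : TopCat.{u}} (f : X ⟶ Y) (n : ℕ) :
    ∀ (F : CohTop.Ab X) [TopCat.Sheaf.IsFlasque F], IsZero (((CohTop.push f).rightDerived (n + 1)).obj F) := by
  induction n with
  | zero =>
    intro F _
    haveI : PreservesFiniteLimits (CohTop.push f) := inferInstance
    haveI : Epi ((CohTop.push f).map (emb F).g) := by
      apply (sheafToPresheaf _ _).epi_of_epi_map
      refine @NatTrans.epi_of_epi_app _ _ _ _ _ _ _ fun V => ?_
      haveI : TopCat.Sheaf.IsFlasque (emb F).X₁ := ‹_›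
      exact TopCat.Sheaf.IsFlasque.epi_of_shortExact (U := (Opens.map f).obj V.unop) (emb_shortExact F)
    rw [IsZero.iff_id_eq_zero]
    have h := (dl_desc_iff₀ (CohTop.push f) F ((CohTop.push f).rightDerivedZeroIsoSelf.inv.app _ ≫ dl _ 0 F)).1
      ⟨𝟙 _, Category.comp_id _⟩
    have h' : (CohTop.push f).rightDerivedZeroIsoSelf.inv.app _ ≫ dl (CohTop.push f) 0 F = 0 :=
      (cancel_epi ((CohTop.push f).map (emb F).g)).1 (h.trans comp_zero.symm)
    rw [Preadditive.IsIso.comp_left_eq_zero] at h'
    exact (cancel_epi (dl (CohTop.push f) 0 F)).1 (by rw [Category.comp_id, comp_zero]; exact h')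
  | succ n ih =>
    intro F _
    haveI : TopCat.Sheaf.IsFlasque (emb F).X₁ := ‹_›
    haveI : TopCat.Sheaf.IsFlasque (emb F).X₂ := CohVanish.isFlasque_of_injective _
    haveI : TopCat.Sheaf.IsFlasque (emb F).X₃ :=
      TopCat.Sheaf.IsFlasque.of_shortExact_of_isFlasque₁₂ (emb_shortExact F)
    exact (ih (emb F).X₃).of_iso (asIso (dl (CohTop.push f) (n + 1) F)).symm

/-- The inclusion of sections with support, as a natural transformation. -/
noncomputable def suppι : LocCohZ.sectSuppF U ⟶ 𝟭 (CohTop.Ab X) where
  app F := kernel.ι _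
  naturality _ _ _ := kernel.lift_ι _ _ _

instance additive_sectSuppF : (LocCohZ.sectSuppF U).Additive where
  map_add {F G} {f g} := by
    have hm : Mono ((suppι U).app G) := inferInstanceAs (Mono (kernel.ι _))
    rw [← cancel_mono ((suppι U).app G), Preadditive.add_comp]
    simp only [(suppι U).naturality, Functor.id_map, Preadditive.comp_add]

theorem nonempty_HZsh_isos :
    Nonempty (LocCohZ.HZsh U 1 ≅
      cokernel (TopCat.Sheaf.pullbackPushforwardAdjunction AddCommGrpCat.{u} (CohCx.incl U)).unit) ∧
      ∀ i : ℕ, 1 ≤ i →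
        Nonempty (LocCohZ.HZsh U (i + 1) ≅ CohTop.pull (CohCx.incl U) ⋙ CohTop.Rpush (CohCx.incl U) i) := by
  haveI := push_additive (CohCx.incl U)
  haveI := pull_rightExact (CohCx.incl U)
  haveI := preservesFiniteLimits_push (CohCx.incl U)
  haveI : (CohTop.pull (CohCx.incl U) ⋙ CohTop.push (CohCx.incl U)).Additive := inferInstance
  let η := (TopCat.Sheaf.pullbackPushforwardAdjunction AddCommGrpCat.{u} (CohCx.incl U)).unit
  haveI : PreservesFiniteLimits (CohTop.pull (CohCx.incl U) ⋙ CohTop.push (CohCx.incl U)) :=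
    comp_preservesFiniteLimits _ _
  have w : ∀ F, (suppι U).app F ≫ η.app F = 0 := fun F => kernel.condition _
  have hlim : ∀ F, IsLimit (KernelFork.ofι ((suppι U).app F) (w F)) := fun F => kernelIsKernel _
  have hη : ∀ (I : CohTop.Ab X) [Injective I], Epi (η.app I) := fun I _ => by
    haveI := CohVanish.isFlasque_of_injective I
    exact epi_unit_of_flasque U I
  refine ⟨nonempty_rightDerived_one_iso _ _ (suppι U) η w hlim hη, fun i hi => ?_⟩
  obtain ⟨n, rfl⟩ : ∃ n, i = n + 1 := ⟨i - 1, by omega⟩
  obtain ⟨e⟩ := nonempty_rightDerived_succ_iso _ _ (suppι U) η w hlim hη n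
  obtain ⟨e'⟩ := nonempty_comp_iso (CohTop.pull (CohCx.incl U)) (CohTop.push (CohCx.incl U))
    (fun I _ m => by
      haveI := CohVanish.isFlasque_of_injective I
      haveI := isFlasque_pull U I
      exact isZero_Rpush_of_flasque (CohCx.incl U) m _) (n + 1)
  exact ⟨e ≪≫ e'⟩

end Groth.Agent.KerDerived
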