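import Groth.Agent.KerDerived.Basic

/-!
`Rⁿ(T ⋙ P) ≅ RⁿT ⋙ P` for exact `P`, naturally.
-/

set_option autoImplicit false
set_option linter.style.haveILetI false

open CategoryTheory CategoryTheory.Limits

namespace Groth.Agent.KerDerived

universe v u v' u' v'' u''

variable {C : Type u} [Category.{v} C] [Abelian C] [EnoughInjectives C] [HasInjectiveResolutions C]
  {C' : Type u''} [Category.{v''} C'] [Abelian C'] {D : Type u'} [Category.{v'} D] [Abelian D]
  (T : C ⥤ C') [T.Additive] [PreservesFiniteLimits T]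
  (P : C' ⥤ D) [P.Additive] [PreservesFiniteLimits P] [PreservesFiniteColimits P]

theorem map_dl_desc_iff (n : ℕ) (X : C) {Z : D} (k : (T.rightDerived n ⋙ P).obj (emb X).X₃ ⟶ Z) :
    (∃ y, P.map (dl T n X) ≫ y = k) ↔ (T.rightDerived n ⋙ P).map (emb X).g ≫ k = 0 := by
  haveI : Epi ((ShortComplex.mk _ _ ((Groth.Agent.TriH.RDer.derivedLES T).comp_δ _ (emb_shortExact X) n (n + 1) rfl)).map P).g :=
    inferInstanceAs (Epi (P.map (dl T n X)))
  exact desc_iff (((Groth.Agent.TriH.RDer.derivedLES T).exact₃ _ (emb_shortExact X) n (n + 1) rfl).map P) k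

theorem nonempty_postcomp_iso (n : ℕ) : Nonempty ((T ⋙ P).rightDerived n ≅ T.rightDerived n ⋙ P) := by
  haveI : PreservesFiniteLimits (T ⋙ P) := comp_preservesFiniteLimits T P
  induction n with
  | zero => exact ⟨(T ⋙ P).rightDerivedZeroIsoSelf ≪≫ (Functor.isoWhiskerRight T.rightDerivedZeroIsoSelf P).symm⟩
  | succ n ih =>
    obtain ⟨e⟩ := ih
    refine natIso_of_cokernels _ _ (fun X => ((T ⋙ P).rightDerived n).obj (emb X).X₃)
      (fun X => dl (T ⋙ P) n X) (fun X => e.hom.app _ ≫ P.map (dl T n X)) inferInstance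
      (fun X => by haveI : Epi (P.map (dl T n X)) := inferInstance; exact epi_comp _ _)
      (fun X Z k => ?_) (fun {X Y} f => ?_)
    · rw [dl_desc_iff]
      have h2 := map_dl_desc_iff T P n X (e.inv.app (emb X).X₃ ≫ k)
      rw [e.inv.naturality_assoc, Preadditive.IsIso.comp_left_eq_zero] at h2
      rw [← h2]
      refine exists_congr fun y => ?_
      constructor
      · intro h; rw [Category.assoc, h, e.hom_inv_id_app_assoc]
      · intro h
        rw [← h, Category.assoc]
        exact (e.inv_hom_id_app_assoc _ _).symm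
    · refine ⟨_, dl_natural (T ⋙ P) n f, ?_⟩
      rw [Category.assoc, e.hom.naturality_assoc]
      refine congrArg (e.hom.app _ ≫ ·) ?_
      change P.map (dl T n X) ≫ P.map ((T.rightDerived (n + 1)).map f) =
        P.map ((T.rightDerived n).map (embMap f).τ₃) ≫ P.map (dl T n Y)
      rw [← P.map_comp, ← P.map_comp, dl_natural]

end Groth.Agent.KerDerived
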