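import Groth.Agent.KerDerived.LocCohSeq
import Groth.Agent.CohVanish.Free

/-!
Cohomology with supports of flasque sheaves.
-/

set_option autoImplicit false
set_option linter.style.haveILetI false
universe u
set_option backward.isDefEq.respectTransparency false
set_option backward.isDefEq.respectTransparency.types false

open CategoryTheory CategoryTheory.Limits Opposite TopologicalSpace Abelian

namespace Groth.Agent.KerDerived

variable {X : TopCat.{u}}

theorem comp_freeMap_surjective {W V : Opens X} (h : W ≤ V) (F : CohTop.Ab X) [TopCat.Sheaf.IsFlasque F]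
    (φ : CohCx.freeSheaf (Opens.grothendieckTopology X) W ⟶ F) :
    ∃ ψ, CohCx.freeSheafMap (Opens.grothendieckTopology X) (homOfLE h) ≫ ψ = φ := by
  let J := Opens.grothendieckTopology X
  obtain ⟨t, ht⟩ := (AddCommGrpCat.epi_iff_surjective _).1
    (TopCat.Presheaf.IsFlasque.epi (F := F.obj) (homOfLE h).op) (CohFree.evalGen J W F φ)
  refine ⟨CohFree.ofSect J V F t, ?_⟩
  rw [← CohFree.ofSect_evalGen J W F φ, ← CohFree.ofSect_evalGen J W F (_ ≫ _)]
  congr 1
  rw [CohFree.evalGen_freeSheafMap_comp, CohFree.evalGen_ofSect]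
  exact ht

theorem subsingleton_HU_of_flasque (F : CohTop.Ab X) [TopCat.Sheaf.IsFlasque F] (V : Opens X) (n : ℕ) :
    Subsingleton (Ext.{u} (CohCx.freeSheaf (Opens.grothendieckTopology X) V) F (n + 1)) :=
  CohVanish.subsingleton_of_flasque F V n

theorem subsingleton_HZ_of_flasque (F : CohTop.Ab X) [TopCat.Sheaf.IsFlasque F] {W V : Opens X} (h : W ≤ V)
    (n : ℕ) : Subsingleton (LocCohZ.HZ F (n + 1) h) := by
  refine subsingleton_of_forall_eq 0 fun x => ?_
  haveI : Subsingleton (Ext (LocCohZ.zqSeq h).X₂ F (n + 1)) := subsingleton_HU_of_flasque F V n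
  obtain ⟨y, rfl⟩ := Ext.contravariant_sequence_exact₃ (LocCohZ.zqSeq_shortExact h) F x (Subsingleton.elim _ _)
    (add_comm 1 n)
  cases n with
  | zero =>
    obtain ⟨φ, rfl⟩ := (Ext.mk₀_bijective _ _).2 y
    obtain ⟨ψ, rfl⟩ := comp_freeMap_surjective h F φ
    exact (congrArg (fun z => Ext.comp _ z _)
      (Ext.mk₀_comp_mk₀ (LocCohZ.zqSeq h).f ψ).symm).trans ((LocCohZ.zqSeq_shortExact h).extClass_comp_assoc (Ext.mk₀ ψ))
  | succ n =>
    haveI : Subsingleton (Ext (LocCohZ.zqSeq h).X₁ F (n + 1)) := subsingleton_HU_of_flasque F W n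
    rw [Subsingleton.elim y 0, Ext.comp_zero]

theorem isZero_HZsh_of_flasque (F : CohTop.Ab X) [TopCat.Sheaf.IsFlasque F] (U : Opens X) (n : ℕ) :
    IsZero ((LocCohZ.HZsh U (n + 1)).obj F) := by
  obtain ⟨h1, h2⟩ := nonempty_HZsh_isos U
  cases n with
  | zero =>
    refine IsZero.of_iso ?_ (h1.some.app F)
    rw [IsZero.iff_id_eq_zero]
    haveI := epi_unit_of_flasque U F
    haveI := push_additive (CohCx.incl U)
    haveI : (CohTop.pull (CohCx.incl U) ⋙ CohTop.push (CohCx.incl U)).Additive := inferInstance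
    haveI := preservesFiniteLimits_push (CohCx.incl U)
    haveI : PreservesFiniteLimits (CohTop.pull (CohCx.incl U) ⋙ CohTop.push (CohCx.incl U)) :=
      comp_preservesFiniteLimits _ _
    refine Cofork.IsColimit.hom_ext (cokerAppIsColimit _
      (TopCat.Sheaf.pullbackPushforwardAdjunction AddCommGrpCat.{u} (CohCx.incl U)).unit F) ?_
    rw [← cancel_epi ((TopCat.Sheaf.pullbackPushforwardAdjunction AddCommGrpCat.{u} (CohCx.incl U)).unit.app F)]
    simp only [CokernelCofork.π_ofπ, comp_zero]
    exact (congrArg (_ ≫ ·) (Category.comp_id _)).trans (coker_cond _ _ _)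
  | succ n =>
    obtain ⟨e⟩ := h2 (n + 1) (by omega)
    haveI := isFlasque_pull U F
    exact (isZero_Rpush_of_flasque (CohCx.incl U) n _).of_iso (e.app F)

end Groth.Agent.KerDerived
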